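import Cfsg.Agent.CosetEnum.WE7A.Data

set_option autoImplicit false
set_option maxRecDepth 100000
set_option Elab.async false

/-! Deductions for the coset table on 56 cosets (generated certificate). -/

namespace CfsgLib.CosetEnum.WE7A

def B0 : ℕ := 0x20c30c9102840e083420708181440c0e303120c488522046811264098624182204c130640b063832448c1038581818181

theorem tree0 : foldR (tree 7 tb id parN parX) 6 0 0 = B0 := by decide +kernel

theorem goodT0 : enum.Good B0 := enum.good_tree_block 6 0 _ _ enum.good_zero tree0

theorem good0 : enum.Good B0 := goodT0

def D1 : ℕ := 0xff00000000ff00000000ff0000003606010000360501000036040100003501030000350c010000350b010000350a01000036030100003602010000340202000034110100003410010000340f0100003509010000340803000033030200003115030000331401000032130300002e1302000025100100002c0f010000330e030000230b010000200b0100001c0b0100002a0a010000330902000031060200002f060200002d0602000021050100001e050100001b050100001a05010000170501000014050100002f0402000027040100000f040100002e030200002b030200002c02020000290202000025020200002701020000240102000021010200001e010200001a01020000311a0200002d180200002d1703000021170200002e150200002b150200001e14010000281303000031110200002f110200002d110200002c11010000291101000025110100001b1001000017100100002f0f0200002c0e020000290e020000220e030000310c0200002f0c0200002d0c0200002a0c010000260c010000230c010000240b020000180b010000150b0100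00110b0100002f0a020000210a020000200a0100001c0a0100000c0a0100002e090200002b090200002a0901000026090100001e090200001c090100002a08020000260802000023080200001d08030000190803000018080200001508020000270601000024060100002106010000140601000010060100000f060100000f050100001e040100001b040100001a040100001704010000270301000024030100001b030100001a0301000010030100000f03010000270201000024020100002102010000140201000010020100000f020100001801030000150103000011010300000d010300000c01030000241a010000151a02000021180100001a15030000241402000011140100001e13020000151102000024100200000e10010000210f0200001b0f010000170f0100000a0f0100001b0e020000140e0300000e0e020000110c0100000d0c0100000c0c0100000c0b010000180a010000150a01000018090100000d090100000c090100000e080300000b080300000a08030000150602000011030200000e020200000b020200000a0202000015180200000a1703000011150200000d13030000091302000006130300000e110100000b110100000a110100000a10010000090e030000080e0300000b0a02000009090200000809020000240502000021040200000b040200001e03020000090302000008030200001b020200001702020000041a0200000b18010000071802000004170200000715030000051503000003150200000814010000051402000003140100000313020000071102000005110200000411020000021101000005100200000210010000040f020000020f010000020e020000150c020000070c020000050c020000040c020000010c010000260b020000050b020000010b010000230a020000040a020000010a0100002009020000110902000003090200000109010000010802000017060200000706020000050602000004060200000006010000050502000000050100000404020000000401000014030200000303020000000301000002020200000002010000000102000000210000000020000000001f000000001e000000001d000000001c0000002d1a020000051a0200002f1802000004180200002b14020000191102000017110200002910020000250f0200000b0f0200001c0c0200000d0a020000100402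

def B1 : ℕ := 0xffffffffffffffffffffffffffffffffffffffffffffffffffffffffffffffffffffffffffffffffffffffffffffffffff

theorem step1 : runDed 7 tb id wd 28 34 8 D1 B0 = B1 := by decide +kernel

theorem good1 : enum.Good B1 :=
  enum.good_ded 8 D1 28 34 _ _ rfl rfl good0 step1

end CfsgLib.CosetEnum.WE7A
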